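import Cfsg.Agent.H9.U4.Sub

/-! Maximal subgroups of `SU_5(q)`: subfield subgroups of odd prime index. -/

set_option autoImplicit false
set_option linter.unusedSimpArgs false
set_option linter.unusedSectionVars false
set_option linter.unusedVariables false

namespace Cfsg.Agent.H6.U5

open Module Cfsg.Agent.H6 Cfsg.Agent.H5.U Cfsg.Agent.H5.U.HF

variable {K : Type*} [Field K] [StarRing K] [NStar K] [Finite K]
  {F : Type*} [Field F] [StarRing F] [NStar F] [Finite F] [Algebra K F]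
  {V₀ : Type*} [AddCommGroup V₀] [Module K V₀] [FiniteDimensional K V₀]
  {V : Type*} [AddCommGroup V] [Module F V] [Module K V] [IsScalarTower K F V]
  [FiniteDimensional F V]
  {h₀ : H5.U.HF K V₀} {h : H5.U.HF F V} {j : V₀ →ₗ[K] V} {M : Subgroup (V ≃ₗ[F] V)}

variable (r : RS h₀ h j) (hM : M ≤ h.SU) (hH : ∀ g ∈ h.SU, PH F j g → g ∈ M)
  (hr : (finrank K F).Prime) (h5 : 5 ≤ finrank K V₀) (hne : ¬ h.SU ≤ M)
include r hM hH hr h5 hne

theorem norm_rat5 (hro : Odd (finrank K F)) (h2 : (2 : F) ≠ 0) {w : V} (ww : h w w = 0)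
    (hw : h.T w (algebraMap K F (del K)) ∈ M) {e : V₀} (he : h₀ e e = 0) :
    ∃ s : K, h (j e) w * h w (j e) = algebraMap K F s := by
  by_cases h0 : h (j e) w = 0
  · exact ⟨0, by simp [h0]⟩
  have he0 : e ≠ 0 := by rintro rfl; simp at h0
  have h1 := symm_ne h0
  have d0 := (map_ne_zero (algebraMap K F)).2 (del_ne (F := K))
  have d1 : star (algebraMap K F (del K)) = -algebraMap K F (del K) := by rw [r.st, star_del, map_neg]
  set d := algebraMap K F (del K) with hd
  have dt : d + star d = 0 := by simp [d1]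
  let k : Subfield (F0 F) := (algebraMap K F).fieldRange.comap (F0 F).subtype
  have := H1.dickson_lemma (F := F0 F) (fun h => h2 (congrArg Subtype.val h))
    ((H1.plGL M (j e) ((d * h (j e) w) • w) 0 0 fun v => h v w = 0 ∧ h v (j e) = 0).comap
      (Matrix.GeneralLinearGroup.map (F0 F).subtype)) k
    (δ := ⟨d * d * (h (j e) w * h w (j e)), by simp [mem_F0, d1, mul_comm]⟩)
    (fun h => by simpa [d0, h0, h1] using congrArg Subtype.val h) (fun s => ⟨?_, ?_⟩) ?_ ?_
  · obtain ⟨s, hs⟩ := this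
    exact ⟨s / (del K * del K), by rw [map_div₀, hs, map_mul, ← hd]; simp; field_simp⟩
  · rintro ⟨t, ht, g1, g2, -, -, g3⟩
    simp at g1 g2
    obtain ⟨g4, g5⟩ := eq_T_of (hM ht).1 (e := (d * h (j e) w) • w) (γ := s) (r.iso he)
      (by simp [d0, h0, h1]) (by rw [map_smul, g2, add_comm]) g1 fun x a b => g3 x ⟨by
        simpa [d0, h1, d1] using a, b⟩
    obtain ⟨a, ha⟩ := (r.step1 hM hH hr h5 hne he he0).1 _ g4 (g5 ▸ ht)
    exact ⟨a / del K, by rw [map_div₀, ← ha, ← hd]; simp; field_simp⟩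
  · rintro ⟨a, ha⟩
    simp at ha
    have a1 : star a = a := (algebraMap K F).injective (by rw [← r.st, ha]; simp [d1, mul_comm])
    have a2 : a * del K + star (a * del K) = 0 := by simp [a1]
    have a3 : algebraMap K F (a * del K) + star (algebraMap K F (a * del K)) = 0 := by
      rw [r.st, ← map_add, a2, map_zero]
    refine ⟨_, r.T_mem hM hH he a2, by simp [T_apply_of_perp (r.iso he)], ?_, by simp, by simp,
      fun v hv => T_apply_of_perp hv.2⟩
    rw [T_apply (r.iso he) a3, map_mul, ha, ← hd]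
    simp
    match_scalars <;> field_simp
  · exact ⟨_, hw, by simp [T_apply ww dt], by simp [T_apply ww dt, ww], by simp, by simp,
      fun v hv => T_apply_of_perp hv.1⟩
  by_cases c : Nat.card (F0 K) < 4
  · exact Or.inr (H9.U4.not_five_dvd' hro c)
  · refine Or.inl ((not_lt.1 c).trans (Nat.card_le_card_of_injective (fun x => (⟨⟨algebraMap K F x, by
      rw [mem_F0, r.st, star_F0]⟩, x, rfl⟩ : k)) fun x y e => ?_))
    exact Subtype.ext ((algebraMap K F).injective (congrArg (fun z : k => (z.1 : F)) e))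

theorem core_odd5 (hro : Odd (finrank K F)) (h2 : (2 : F) ≠ 0) {g : V ≃ₗ[F] V} (hg : g ∈ M) :
    PH F j g := by
  by_contra hc
  obtain ⟨e, -, e0, ee⟩ := exists_iso (h := h₀) (K := ⊤) (by simp; omega)
  have gen : ∀ x, h₀ x x = 0 → x ≠ 0 → h (j x) (g (j e)) ≠ 0 := fun x xx x0 h0 =>
    hc (r.block hM hH hr h5 hne hg xx x0 ee e0 h0)
  have ww : h (g (j e)) (g (j e)) = 0 := by rw [(hM hg).1, r.iso ee]
  have hw := mul_mem (mul_mem hg (r.T_mem hM hH ee (del_tr (F := K)))) (inv_mem hg)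
  rw [conj_T (hM hg).1 (r.iso ee) (by rw [r.st, ← map_add, del_tr, map_zero])] at hw
  generalize g (j e) = w at gen ww hw
  have hN := fun x => norm_rat5 r hM hH hr h5 hne hro h2 ww hw (e := x)
  have key : ∀ x y, h₀ x x = 0 → x ≠ 0 → h₀ y y = 0 → h₀ x y = 0 →
      ∃ s : K, h (j y) w = algebraMap K F s * h (j x) w := fun x y xx x0 yy xy => by
    obtain ⟨θ, hθ⟩ := NStar.exists_ne (F := K)
    obtain ⟨s, hs⟩ := hN x xx
    obtain ⟨t, ht⟩ := hN y yy
    obtain ⟨u, hu⟩ := hN (x + y) (by simp [xx, yy, xy, symm0 xy])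
    obtain ⟨v, hv⟩ := hN (x + θ • y) (by simp [xx, yy, xy, symm0 xy])
    simp only [map_add, j_smul (F := F), add_left, add_right, smul_left, smul_right, r.st] at hu hv
    have k1 := symm_ne (gen x xx x0)
    have k2 := (map_ne_zero (algebraMap K F)).2 (sub_ne_zero.2 hθ.symm)
    have k3 : algebraMap K F s ≠ 0 := hs ▸ mul_ne_zero (gen x xx x0) k1
    refine ⟨(v - s - θ * star θ * t - star θ * (u - s - t)) / ((θ - star θ) * s), ?_⟩
    simp only [map_div₀, map_sub, map_mul, ← hs, ← ht, ← hu, ← hv] at k2 ⊢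
    have := gen x xx x0
    field_simp; ring
  have k1 := gen e ee e0
  let A : AddSubgroup V₀ :=
    { carrier := {x | ∃ s : K, h (j x) w = algebraMap K F s * h (j e) w}
      add_mem' := by
        rintro x y ⟨s, hs⟩ ⟨t, ht⟩
        exact ⟨s + t, by simp [hs, ht, add_mul]⟩
      zero_mem' := ⟨0, by simp⟩
      neg_mem' := by
        rintro x ⟨s, hs⟩
        exact ⟨-s, by simp [hs]⟩ }
  have hA : ∀ x, x ∈ A := fun x =>
    (ndOn_top (h := h₀)).mem_addSubgroup (by simp; omega) A (fun y _ yy => by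
      obtain ⟨z, -, z0, zz, hz⟩ := exists_iso_perp (h := h₀) ⊤ [e, y] (by simp; omega)
      obtain ⟨s, hs⟩ := key e z ee e0 zz (symm0 (hz e (by simp)))
      obtain ⟨t, ht⟩ := key z y zz z0 yy (hz y (by simp))
      exact ⟨t * s, by rw [ht, hs, map_mul, mul_assoc]⟩) trivial
  obtain ⟨y, hy⟩ := r.rat_of_val (v := (star (h (j e) w))⁻¹ • w) fun x => by
    obtain ⟨s, hs⟩ := hA x
    exact ⟨s, by simp [hs]; field_simp⟩
  refine gen y ((algebraMap K F).injective ?_) (by rintro rfl; simp [symm_ne k1, ne_zero_right k1] at hy)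
    (by simp [← hy, ww])
  simp [← r.form, ← hy, ww]

omit r hM hH hr h5 hne in
theorem oddsub_max {F : Type*} [Field F] [Fintype F] (n q : ℕ) (hn : 5 ≤ n)
    (hF : Fintype.card F = q ^ 2)
    (F₀ : Subfield F) (r : ℕ) (P : GL (Fin n) F) (hr : r.Prime) (hro : Odd r)
    (hcard : Fintype.card F = Nat.card F₀ ^ r)
    (hP : Geo.IsFormRationalStructure (hermForm n F q) F₀ 1 P) :
    Geo.IsMaximalIn (GU n F q ⊓ Geo.specialLinear (Fin n) F)
      (Geo.subfieldSubgroup F₀ P ⊓ (GU n F q ⊓ Geo.specialLinear (Fin n) F)) :=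
  odd_subfield_maximal_of n q hF (by omega) F₀ r hr hro hcard P hP
    fun h₀ h j rs h1 h2 M hM hH ⟨g, hg, hg'⟩ => by_contra fun hne => hg' (by
      by_cases h3 : (2 : F) = 0
      exacts [rs.core_even hM hH h1 (by simpa using hn) hne h2 h3 hg,
        core_odd5 rs hM hH h1 (by simpa using hn) hne h2 h3 hg])

end Cfsg.Agent.H6.U5
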